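import Mathlib
import Cfsg.Prelude.Def_Classical
import Cfsg.Prelude.Def_KGroupFacts
import Cfsg.Agent.Lib.Helper19.U3P.Defs

/-!
# Project SU3M (designer helper24): the Schur multiplier of `SU₃(q)`, `q ≥ 3`, is trivial  (rank one half of S2089)

`π : Γ →* SU₃(q)` a finite stem extension.  For every prime `r` we give a subgroup `S` of `SU₃(q)` of index prime to `r` such that the derived subgroup of
`S.comap π` meets `π.ker` in a group without `r`-torsion; the transfer lemma (`helper3.StemTools`) then says that `π.ker` has no element of order `r`.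

Coordinates: `D : Par F K q` (helper19's U3P): `D.σ` the Frobenius `x ↦ x^q`, `D.c` hyperbolic coordinates (`D.c.cj X` = the matrix of `X` in a basis where
the form is `antidiag(1,1,1)`), `K` the fixed field (`D.ι : K →+* F`), `D.ζ` a generator of `Fˣ`.  `uu σ α β = [[1,α,β],[0,1,-σα],[0,0,1]]`,
`dd σ l = diag(l, σl/l, 1/σl)`, `rhoM ι ε g` the embedding of `SL₂(K)` on the hyperbolic pair.
-/

set_option autoImplicit false

namespace Cfsg.Agent.Lib.Helper24.SU3M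

open Cfsg.Agent.Lib.Helper19.U3P Cfsg.Agent.Lib.Helper25.SU3P Cfsg.Agent.Lib.helper14.SU3J Matrix

universe u

variable {F : Type u} [Field F] {K : Type u} [Field K] {q : ℕ}

/-- the unitriangular subgroup `U` (a Sylow `p`-subgroup, order `q³`) -/
def Ug (D : Par F K q) : Subgroup ↥(Cfsg.SU 3 F q) :=
  Subgroup.closure {X | IsUT (D.c.cj X)}

/-- the centre `A = U'` of `U` (order `q`) -/
def Ag (D : Par F K q) : Subgroup ↥(Cfsg.SU 3 F q) :=
  Subgroup.closure {X | ∃ e : F, D.c.cj X = uu D.σ 0 e}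

/-- the data: a skew element `ε`, the torus generator `hz = dd ζ`, the embedding `ρ` of `SL₂(K)` -/
structure Dat (D : Par F K q) (ε : F) (hz : ↥(Cfsg.SU 3 F q)) (ρ : SL2 K →* ↥(Cfsg.SU 3 F q)) : Prop where
  hε : ε ≠ 0
  hεσ : D.σ ε = -ε
  hhz : D.c.cj hz = dd D.σ (D.ζ : F)
  hρ : ∀ g : SL2 K, D.c.cj (ρ g) = rhoM D.ι ε g

/-- the Borel subgroup `B = U ⋊ ⟨hz⟩` -/
def Bg (D : Par F K q) (hz : ↥(Cfsg.SU 3 F q)) : Subgroup ↥(Cfsg.SU 3 F q) :=
  Ug D ⊔ Subgroup.zpowers hz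

/-- the stabiliser of the anisotropic line: `ρ(SL₂(K)) ⋊ ⟨hz⟩` (`≅ GU₂(q)`) -/
def Mg (hz : ↥(Cfsg.SU 3 F q)) (ρ : SL2 K →* ↥(Cfsg.SU 3 F q)) : Subgroup ↥(Cfsg.SU 3 F q) :=
  ρ.range ⊔ Subgroup.zpowers hz

/-- the monomial data in the ORTHONORMAL basis (the matrices of `Cfsg.SU 3 F q` themselves): the diagonal torus `dg (a, b) = diag(a, b, (ab)⁻¹)`, `a^(q+1) = b^(q+1) = 1`,
the `3`-cycle `w` and the transposition `s` (with sign, determinant `1`) -/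
structure Tor (q : ℕ) (dg : (↥(rootsOfUnity (q + 1) F) × ↥(rootsOfUnity (q + 1) F)) →* ↥(Cfsg.SU 3 F q))
    (w s : ↥(Cfsg.SU 3 F q)) : Prop where
  hdg : ∀ a b : ↥(rootsOfUnity (q + 1) F),
    smat (dg (a, b)) = Matrix.diagonal ![((a : Fˣ) : F), ((b : Fˣ) : F), (((a * b)⁻¹ : Fˣ) : F)]
  hw : smat w = !![0, 0, 1; 1, 0, 0; 0, 1, 0]
  hs : smat s = !![0, -1, 0; -1, 0, 0; 0, 0, -1]

/-- the monomial subgroup `T ⋊ ⟨w⟩` -/
def Ng (dg : (↥(rootsOfUnity (q + 1) F) × ↥(rootsOfUnity (q + 1) F)) →* ↥(Cfsg.SU 3 F q))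
    (w : ↥(Cfsg.SU 3 F q)) : Subgroup ↥(Cfsg.SU 3 F q) :=
  dg.range ⊔ Subgroup.zpowers w

section ext

variable {Γ : Type*} [Group Γ]

/-- `A₀ = [t, π⁻¹ A]`: the canonical complement of the kernel in `π⁻¹ A` -/
def A0 (D : Par F K q) (π : Γ →* ↥(Cfsg.SU 3 F q)) (t : Γ) : Subgroup Γ :=
  Subgroup.closure {g | ∃ y ∈ (Ag D).comap π, g = t * y * t⁻¹ * y⁻¹}

/-- `V = [t, π⁻¹ U] A₀`: the canonical complement of the kernel in `π⁻¹ U` -/
def Vg (D : Par F K q) (π : Γ →* ↥(Cfsg.SU 3 F q)) (t : Γ) : Subgroup Γ :=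
  Subgroup.closure {g | ∃ x ∈ (Ug D).comap π, ∃ a ∈ A0 D π t, g = t * x * t⁻¹ * x⁻¹ * a}

end ext

end Cfsg.Agent.Lib.Helper24.SU3M
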